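import Cfsg.Agent.H51.Ore.RuEng

/-!
# The classes of the Rudvalis group: class 3a (helper51)

Generated certificates: for a representative `w` the masks of the points adjacent to their images under `w`, `w²`, `w³`,
a bound of the centralizer, the invariants, and the form of a commutator.
-/

set_option autoImplicit false
set_option maxRecDepth 100000
set_option exponentiation.threshold 5000

namespace Cfsg.Agent.H51.Ore.Ru

open Cfsg.Agent.Lib Cfsg.Agent.Lib.BitNet Cfsg.Agent.SporadicB Cfsg.Agent.SporadicB.RuData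
open Cfsg.Agent.SporadicB.RuOrder Cfsg.Agent.RuD.Data Cfsg.Agent.SporRec.TCUpperCert Cfsg.Agent.SporRec.R3.Kernel
open Cfsg.Agent.RuD.Letters Cfsg.Agent.KFacts.Ru.CentEng Cfsg.Agent.CpAutRuFive.Eng

/-! ### class 3a -/

def m1_3a : ℕ := 0x7b2231e007c430650bdb2a2a8bcaa064c5d410531fe9412452b5ae77eed6c7af2924d50dc064611f3278f32943cd9871b3127955014f2396685155406f3686d1a4b908fa698e5401f55095b7d469d6ba96f96e39b77f2448077042e428c27518b557391182cc193c453695672a85b558c08dbbc8e6c88cf72ac71983af98ed15379546c01cc11e8f4050dc4367560e208b3a0323d567966b441364c240eab3eb435543059e7c45fd56f9ec1949eb143abf525457a12a0989ac8461f566e8a0b3087ccda5789f3140abb482bfcd69d704b41afde69205768651f42138b47c9ea173806ab23337e78a2a087aa5336aeebcb308c029a3fe14ebfba4ff523f4a425b3aa6a8e71cc8c7e4568200024936daaa3dd4135cabe4ed1e81e79d40b13c9b85ee8403305184d83858204b0101350c670e9b9dbb4436977834898f8d7072c61f58144cc6d6b2614e11e087db0a99b9a73873d0d5dc68e6f014b93db869c13153e22d3b1d0e9f53ac723fbb1a247430d857850ade80597b3e0a07b0e681c277417899adcc844c18b1aaa010764226fbe1f3a821550b0a54180ca3ad9e3bbd91faf85a181fdbe082491e10a5052ce50a542327ca2ad68614518c34865039c4816b2ea5d761a272810209eacd168d5218f97628526281fb03a40990afb93b7313250519fa0d227438e0547aee38fc6766c8547600cd7209a5194bc5e07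

def m2_3a : ℕ := 0x7b2231e007c430650bdb2a2a8bcaa064c5d410531fe9412452b5ae77eed6c7af2924d50dc064611f3278f32943cd9871b3127955014f2396685155406f3686d1a4b908fa698e5401f55095b7d469d6ba96f96e39b77f2448077042e428c27518b557391182cc193c453695672a85b558c08dbbc8e6c88cf72ac71983af98ed15379546c01cc11e8f4050dc4367560e208b3a0323d567966b441364c240eab3eb435543059e7c45fd56f9ec1949eb143abf525457a12a0989ac8461f566e8a0b3087ccda5789f3140abb482bfcd69d704b41afde69205768651f42138b47c9ea173806ab23337e78a2a087aa5336aeebcb308c029a3fe14ebfba4ff523f4a425b3aa6a8e71cc8c7e4568200024936daaa3dd4135cabe4ed1e81e79d40b13c9b85ee8403305184d83858204b0101350c670e9b9dbb4436977834898f8d7072c61f58144cc6d6b2614e11e087db0a99b9a73873d0d5dc68e6f014b93db869c13153e22d3b1d0e9f53ac723fbb1a247430d857850ade80597b3e0a07b0e681c277417899adcc844c18b1aaa010764226fbe1f3a821550b0a54180ca3ad9e3bbd91faf85a181fdbe082491e10a5052ce50a542327ca2ad68614518c34865039c4816b2ea5d761a272810209eacd168d5218f97628526281fb03a40990afb93b7313250519fa0d227438e0547aee38fc6766c8547600cd7209a5194bc5e07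

def m3_3a : ℕ := 0x0

def i_3a : List St := [
  .and 0 0, .cnt 1 822, .and 0 1, .base 0 0, .and 6 6, .and 0 4, .diff 0 6, .diff 0 5, .cnt 1 104, .and 0 1,
  .base 0 2549, .and 7 7, .and 0 4, .diff 0 6, .diff 0 5, .cnt 11 64, .and 0 1, .pt 0 3706, .and 6 6, .and 0 29,
  .and 0 16, .and 0 29, .and 0 8, .diff 0 30, .pt 0 137, .and 8 8, .and 0 5, .and 0 15, .pt 0 3414, .and 26 26,
  .and 0 13, .diff 0 25, .and 0 24, .diff 0 8, .pt 0 646, .and 38 38, .and 0 4, .diff 0 16, .diff 0 25,
  .diff 0 36, .pt 0 2946]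

/-- representative -/
def w_3a : List ℕ := [5, 2, 0, 2, 5, 0]

theorem a1_3a : chkAdj (rpw w_3a 1) m1_3a = true := by decide +kernel
theorem a2_3a : chkAdj (rpw w_3a 2) m2_3a = true := by decide +kernel
theorem a3_3a : chkAdj (rpw w_3a 3) m3_3a = true := by decide +kernel
theorem r_3a : run w_3a i_3a [m1_3a] = some 2160 := by decide +kernel
theorem g_3a : Good (wprod ml w_3a) :=
  good_of (t := [5]) (u := [2]) (b := [0]) (b' := [0]) (by decide +kernel) rfl

/-- **the class 3a** -/
theorem ok_3a : Cl.OK ⟨w_3a, 2160, (1890, 0)⟩ :=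
  ok_c a1_3a a2_3a a3_3a (by decide +kernel) (by decide +kernel) (by decide +kernel)
    (fun m hm => Or.inl (List.mem_singleton.1 hm)) r_3a g_3a

end Cfsg.Agent.H51.Ore.Ru
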